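import Groth.Prelude.Def_ActBC
import Groth.Agent.S6092
import Groth.Agent.S0591
import Groth.Agent.TorsorLimLib.Basic

/-! Torsors under a fixed finite group over an affine limit come from a stage, with the action. -/

set_option autoImplicit false
set_option maxHeartbeats 1000000
set_option linter.style.haveILetI false
set_option backward.isDefEq.respectTransparency false
set_option backward.isDefEq.respectTransparency.types false

universe u

open CategoryTheory CategoryTheory.Limits MonoidalCategory CartesianMonoidalCategory AlgebraicGeometry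
open GrpLimLib NonAbH1
open scoped MonObj

noncomputable section

namespace TorsStageLib

variable {I : Type u} [SmallCategory I] {D : I ⥤ Scheme.{u}} {c : Cone D} {S₀ : Scheme.{u}}
  {q : ∀ i, D.obj i ⟶ S₀} {d : c.pt ⟶ S₀} (G : Over S₀) [GrpObj G]

/-- The group over a stage, base changed to a later one. -/
abbrev lam (hq : ∀ {i j : I} (a : i ⟶ j), D.map a ≫ q j = q i) {i j : I} (a : i ⟶ j) :
    Red.bc (D.map a) (Red.bc (q j) G) ≅ Red.bc (q i) G := ActBC.bcCompIso (D.map a) (q j) G (hq a)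

/-- The group over a stage, base changed to the limit. -/
abbrev kap (hd : ∀ i, c.π.app i ≫ q i = d) (i : I) : Red.bc (c.π.app i) (Red.bc (q i) G) ≅ Red.bc d G :=
  ActBC.bcCompIso (c.π.app i) (q i) G (hd i)

variable (hq : ∀ {i j : I} (a : i ⟶ j), D.map a ≫ q j = q i) (hd : ∀ i, c.π.app i ≫ q i = d)

omit [GrpObj G] in
theorem kap_comp {i j : I} (a : i ⟶ j) :
    (compIso c a (Red.bc (q j) G)).hom ≫ (kap G hd j).hom =
      (Over.pullback (c.π.app i)).map (lam G hq a).hom ≫ (kap G hd i).hom := by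
  apply bc_ext
  rw [Over.comp_left, Over.comp_left, Category.assoc, Category.assoc, ActBC.bcCompIso_hom_left_fst,
    ActBC.bcCompIso_hom_left_fst, reassoc_of% compIso_hom_fst, ← Category.assoc
      ((Over.pullback (c.π.app i)).map (lam G hq a).hom).left, map_left_fst, Category.assoc,
    ActBC.bcCompIso_hom_left_fst]

variable {G} {V : Over c.pt} (act₀ : AlgGrp.Action (Red.bc d G) V)

/-- A model over a stage of the action over the limit. -/
def IsModel {i : I} (X : Over (D.obj i)) (e : Red.bc (c.π.app i) X ≅ V) (act : Red.bc (q i) G ⊗ X ⟶ X) : Prop :=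
  Functor.LaxMonoidal.μ (Over.pullback (c.π.app i)) (Red.bc (q i) G) X ≫
    (Over.pullback (c.π.app i)).map act ≫ e.hom = ((kap G hd i).hom ⊗ₘ e.hom) ≫ act₀.act

theorem isModel_push {i j : I} (a : i ⟶ j) (X : Over (D.obj j)) (e : Red.bc (c.π.app j) X ≅ V)
    (v : Red.bc (D.map a) (Red.bc (q j) G ⊗ X) ⟶ Red.bc (D.map a) X)
    (hv : (Over.pullback (c.π.app i)).map v ≫ (compIso c a X).hom ≫ e.hom =
      (compIso c a (Red.bc (q j) G ⊗ X)).hom ≫ Functor.OplaxMonoidal.δ (Over.pullback (c.π.app j)) _ X ≫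
        ((kap G hd j).hom ⊗ₘ e.hom) ≫ act₀.act) :
    IsModel hd act₀ (Red.bc (D.map a) X) (compIso c a X ≪≫ e)
      (((lam G hq a).inv ⊗ₘ 𝟙 _) ≫ Functor.LaxMonoidal.μ (Over.pullback (D.map a)) _ X ≫ v) := by
  unfold IsModel
  rw [Functor.map_comp, Functor.map_comp, Iso.trans_hom]
  simp only [Category.assoc]
  rw [hv, ← Functor.LaxMonoidal.μ_natural_assoc, reassoc_of% compIso_mul (c := c) a (Red.bc (q j) G) X,
    Functor.Monoidal.μ_δ_assoc, tensorHom_comp_tensorHom_assoc, tensorHom_comp_tensorHom_assoc]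
  congr 2
  · rw [Category.assoc, kap_comp G hq hd, ← Category.assoc, ← Functor.map_comp, Iso.inv_hom_id]
    simp
  · simp

variable {hd} {act₀} in
theorem IsModel.push {j : I} {X : Over (D.obj j)} {e : Red.bc (c.π.app j) X ≅ V} {act : Red.bc (q j) G ⊗ X ⟶ X}
    (h : IsModel hd act₀ X e act) {i : I} (a : i ⟶ j) :
    IsModel hd act₀ (Red.bc (D.map a) X) (compIso c a X ≪≫ e)
      (((lam G hq a).inv ⊗ₘ 𝟙 _) ≫ Functor.LaxMonoidal.μ (Over.pullback (D.map a)) _ X ≫
        (Over.pullback (D.map a)).map act) := by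
  refine isModel_push hq hd act₀ a X e _ ?_
  unfold IsModel at h
  rw [reassoc_of% compIso_naturality (c := c) a act, ← h, Functor.Monoidal.δ_μ_assoc]

variable {hd} {act₀} in
theorem IsModel.axioms {i : I} {X : Over (D.obj i)} {e : Red.bc (c.π.app i) X ≅ V} {act : Red.bc (q i) G ⊗ X ⟶ X}
    (h : IsModel hd act₀ X e act) :
    (Over.pullback (c.π.app i)).map (η[Red.bc (q i) G] ▷ X ≫ act) =
      (Over.pullback (c.π.app i)).map (λ_ X).hom ∧
    (Over.pullback (c.π.app i)).map (μ[Red.bc (q i) G] ▷ X ≫ act) =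
      (Over.pullback (c.π.app i)).map ((α_ (Red.bc (q i) G) (Red.bc (q i) G) X).hom ≫ Red.bc (q i) G ◁ act ≫ act) := by
  let F := Over.pullback (c.π.app i)
  let G' := Red.bc (q i) G
  let T : Red.bc (c.π.app i) G' ⊗ Red.bc (c.π.app i) X ⟶ Red.bc (c.π.app i) X :=
    Functor.LaxMonoidal.μ F G' X ≫ F.map act
  let b0 := act₀.restrict (kap G hd i).hom
  have hT : T ≫ e.hom = Red.bc (c.π.app i) G' ◁ e.hom ≫ b0.act := by
    rw [AlgGrp.Action.restrict_act, ← Category.assoc _ ((kap G hd i).hom ▷ V), ← tensorHom_def']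
    exact (Category.assoc _ _ _).trans h
  have h1 : η[Red.bc (c.π.app i) G'] ▷ Red.bc (c.π.app i) X ≫ T = (λ_ _).hom := by
    rw [← cancel_mono e.hom, Category.assoc, hT, ← whisker_exchange_assoc, b0.one_act, leftUnitor_naturality]
  have h2 : μ[Red.bc (c.π.app i) G'] ▷ Red.bc (c.π.app i) X ≫ T =
      (α_ _ _ _).hom ≫ Red.bc (c.π.app i) G' ◁ T ≫ T := by
    rw [← cancel_mono e.hom, Category.assoc, hT, ← whisker_exchange_assoc, b0.mul_act,
      associator_naturality_right_assoc]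
    simp only [Category.assoc, hT]
    rw [← MonoidalCategory.whiskerLeft_comp_assoc, ← MonoidalCategory.whiskerLeft_comp_assoc, hT]
  constructor
  · change (Functor.LaxMonoidal.ε F ≫ F.map η[G']) ▷ F.obj X ≫ Functor.LaxMonoidal.μ F G' X ≫ F.map act = _ at h1
    rw [comp_whiskerRight, Category.assoc, Functor.LaxMonoidal.μ_natural_left_assoc, ← F.map_comp,
      Functor.LaxMonoidal.left_unitality F X] at h1
    exact (cancel_epi _).1 ((cancel_epi _).1 h1)
  · change (Functor.LaxMonoidal.μ F G' G' ≫ F.map μ[G']) ▷ F.obj X ≫ Functor.LaxMonoidal.μ F G' X ≫ F.map act =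
      (α_ (F.obj G') (F.obj G') (F.obj X)).hom ≫ F.obj G' ◁ (Functor.LaxMonoidal.μ F G' X ≫ F.map act) ≫
        Functor.LaxMonoidal.μ F G' X ≫ F.map act at h2
    rw [← cancel_epi (Functor.LaxMonoidal.μ F (G' ⊗ G') X), ← cancel_epi (Functor.LaxMonoidal.μ F G' G' ▷ F.obj X)]
    simpa [Functor.LaxMonoidal.associativity_assoc, F, G'] using h2

/-- The action at a stage at which the axioms hold. -/
@[simps]
def actionOfMap {S S' : Scheme.{u}} (g : S' ⟶ S) (H X : Over S) [GrpObj H] (act : H ⊗ X ⟶ X)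
    (h1 : (Over.pullback g).map (η[H] ▷ X ≫ act) = (Over.pullback g).map (λ_ X).hom)
    (h2 : (Over.pullback g).map (μ[H] ▷ X ≫ act) =
      (Over.pullback g).map ((α_ H H X).hom ≫ H ◁ act ≫ act)) :
    AlgGrp.Action (Red.bc g H) (Red.bc g X) where
  act := Functor.LaxMonoidal.μ (Over.pullback g) H X ≫ (Over.pullback g).map act
  one_act := by
    rw [Functor.obj.η_def, comp_whiskerRight, Category.assoc, Functor.LaxMonoidal.μ_natural_left_assoc,
      ← Functor.map_comp, h1]
    exact (Functor.LaxMonoidal.left_unitality (Over.pullback g) X).symm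
  mul_act := by
    simp_rw [Functor.obj.μ_def, comp_whiskerRight, Category.assoc, Functor.LaxMonoidal.μ_natural_left_assoc,
      MonoidalCategory.whiskerLeft_comp, Category.assoc, Functor.LaxMonoidal.μ_natural_right_assoc]
    slice_lhs 3 4 => rw [← Functor.map_comp, h2]
    simp

theorem lift_restrict {S : Scheme.{u}} {H H' X : Over S} [GrpObj H] [GrpObj H'] (φ : H' ⟶ H) [IsMonHom φ] [IsIso φ]
    (a : AlgGrp.Action H X) (ha : IsPseudoTorsorSch a) : IsPseudoTorsorSch (a.restrict φ) := by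
  haveI : IsIso (lift a.act (snd H X)) := ha
  unfold IsPseudoTorsorSch
  have e : lift (a.restrict φ).act (snd H' X) = (φ ▷ X) ≫ lift a.act (snd H X) := by
    rw [comp_lift, whiskerRight_snd, AlgGrp.Action.restrict_act]
  rw [e]
  infer_instance

variable [IsCofiltered I] [∀ (i i' : I) (f : i ⟶ i'), IsAffineHom (D.map f)] [∀ i, CompactSpace (D.obj i)]
  [∀ i, QuasiSeparatedSpace (D.obj i)]

include hq in
theorem exists_stage (hc : IsLimit c) [IsFinite G.hom] [LocallyOfFinitePresentation G.hom] [IsFinite V.hom]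
    [LocallyOfFinitePresentation V.hom] [Flat V.hom] [Surjective V.hom] (hp : IsPseudoTorsorSch act₀) :
    ∃ (i : I) (Vi : Over (D.obj i)) (ai : AlgGrp.Action (Red.bc (q i) G) Vi), IsFinite Vi.hom ∧
      IsTorsorFor Scheme.fpqcPrecoverage ai ∧
      Nonempty (EquivIso (ai.bc (c.π.app i)) (act₀.restrict (kap G hd i).hom)) := by
  obtain ⟨i₀, Z₀, f₀, g₀, hf1, hf2, hf3, hsq⟩ := Groth.Agent.S0591.result D c hc V.left V.hom
  obtain ⟨φ, hφ⟩ : ∃ φ : Over i₀, IsFinite (pullback.snd f₀ (D.map φ.hom)) :=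
    RichLib.LimBC.exists_at_isFinite (RichLib.LimBC.ofStage D c hc i₀) f₀ (by
      change IsFinite (pullback.snd f₀ (c.π.app i₀))
      rw [← hsq.isoPullback_inv_snd]
      infer_instance)
  let e₀ : Red.bc (c.π.app i₀) (Over.mk f₀) ≅ V := (Over.isoMk hsq.isoPullback hsq.isoPullback_hom_snd).symm
  let j := φ.left
  let X : Over (D.obj j) := Red.bc (D.map φ.hom) (Over.mk f₀)
  haveI hXf : IsFinite X.hom := hφ
  haveI : LocallyOfFinitePresentation X.hom := MorphismProperty.pullback_snd _ _ hf1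
  let e : Red.bc (c.π.app j) X ≅ V := compIso c φ.hom (Over.mk f₀) ≪≫ e₀
  have hfG : ∀ i, IsFinite (Red.bc (q i) G).hom ∧ LocallyOfFinitePresentation (Red.bc (q i) G).hom := fun i =>
    ⟨MorphismProperty.pullback_snd _ _ ‹_›, MorphismProperty.pullback_snd _ _ ‹_›⟩
  haveI := (hfG j).1; haveI := (hfG j).2
  haveI : QuasiCompact (Red.bc (q j) G ⊗ X).hom := by rw [Over.tensorObj_hom]; infer_instance
  haveI : QuasiSeparated (Red.bc (q j) G ⊗ X).hom := by rw [Over.tensorObj_hom]; infer_instance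
  obtain ⟨i, a, v, hv⟩ := exists_descend hc (Functor.OplaxMonoidal.δ (Over.pullback (c.π.app j)) (Red.bc (q j) G) X ≫
    ((kap G hd j).hom ⊗ₘ e.hom) ≫ act₀.act ≫ e.inv)
  have hm := isModel_push hq hd act₀ a X e v (by
    rw [reassoc_of% hv]
    simp only [Category.assoc, Iso.inv_hom_id, Category.comp_id, Iso.inv_hom_id_assoc])
  let Xi := Red.bc (D.map a) X
  haveI := (hfG i).1; haveI := (hfG i).2
  haveI : IsFinite Xi.hom := MorphismProperty.pullback_snd _ _ hXf
  haveI : LocallyOfFinitePresentation Xi.hom := MorphismProperty.pullback_snd _ _ ‹_›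
  haveI : QuasiCompact (𝟙_ (Over (D.obj i))).hom := inferInstanceAs (QuasiCompact (𝟙 _))
  haveI : QuasiCompact (𝟙_ (Over (D.obj i)) ⊗ Xi).hom := by rw [Over.tensorObj_hom]; infer_instance
  haveI : QuasiCompact (Red.bc (q i) G ⊗ Red.bc (q i) G).hom := by rw [Over.tensorObj_hom]; infer_instance
  haveI : QuasiCompact ((Red.bc (q i) G ⊗ Red.bc (q i) G) ⊗ Xi).hom := by rw [Over.tensorObj_hom]; infer_instance
  obtain ⟨hx1, hx2⟩ := hm.axioms
  obtain ⟨k₁, b₁, h₁⟩ := exists_eq hc _ _ hx1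
  obtain ⟨k₂, b₂, h₂⟩ := exists_eq hc _ _ hx2
  obtain ⟨k, d₁, d₂, ed⟩ := IsCofiltered.cospan b₁ b₂
  have h₁' := eq_of_factor d₁ b₁ (d₁ ≫ b₁) rfl h₁
  have h₂' := eq_of_factor d₂ b₂ (d₁ ≫ b₁) ed.symm h₂
  generalize d₁ ≫ b₁ = β at h₁' h₂'
  let Xk := Red.bc (D.map β) Xi
  haveI : IsMonHom (lam G hq β).inv := inferInstance
  let ak : AlgGrp.Action (Red.bc (q k) G) Xk := (actionOfMap (D.map β) _ Xi _ h₁' h₂').restrict (lam G hq β).inv
  have hmk := hm.push hq β
  have hak : IsModel hd act₀ Xk (compIso c β Xi ≪≫ compIso c a X ≪≫ e) ak.act := by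
    convert hmk using 1
    simp [ak, actionOfMap, tensorHom_id]
    rfl
  haveI := (hfG k).1; haveI := (hfG k).2
  haveI hXk : IsFinite Xk.hom := MorphismProperty.pullback_snd _ _ ‹IsFinite Xi.hom›
  haveI : LocallyOfFinitePresentation Xk.hom := MorphismProperty.pullback_snd _ _ ‹LocallyOfFinitePresentation Xi.hom›
  generalize (compIso c β Xi ≪≫ compIso c a X ≪≫ e) = ek at hak

  unfold IsModel at hak
  obtain ⟨l, f, hl, hcov⟩ := (Groth.Agent.S6092.result D c hc k (Red.bc (q k) G) Xk ak).1 ⟨by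
      have e1 : lift (Functor.LaxMonoidal.μ (Over.pullback (c.π.app k)) (Red.bc (q k) G) Xk ≫
            (Over.pullback (c.π.app k)).map ak.act) (snd _ _) ≫ (ek.hom ⊗ₘ ek.hom) =
          ((kap G hd k).hom ⊗ₘ ek.hom) ≫ lift act₀.act (snd _ _) := by
        rw [lift_map, comp_lift, tensorHom_snd, Category.assoc, hak]
      haveI : IsIso (lift act₀.act (snd (Red.bc d G) V)) := hp
      haveI : IsIso (lift (Functor.LaxMonoidal.μ (Over.pullback (c.π.app k)) (Red.bc (q k) G) Xk ≫
            (Over.pullback (c.π.app k)).map ak.act) (snd _ _) ≫ (ek.hom ⊗ₘ ek.hom)) := by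
        rw [e1]; infer_instance
      exact IsIso.of_isIso_comp_right _ (ek.hom ⊗ₘ ek.hom),
    ⟨V.left, V.hom, ek.inv.left, Over.w ek.inv, inferInstance, inferInstance, inferInstance, inferInstance,
      inferInstance⟩⟩
  let al : AlgGrp.Action (Red.bc (q l) G) (Red.bc (D.map f) Xk) := (ak.bc (D.map f)).restrict (lam G hq f).inv
  refine ⟨l, _, al, MorphismProperty.pullback_snd _ _ hXk, ⟨lift_restrict _ _ ?_, ?_⟩, ?_⟩
  · exact hl
  · obtain ⟨Z, v', w, hw, hv1, hv2, hv3, hv4, hv5⟩ := hcov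
    refine ⟨Presieve.singleton v', v'.singleton_mem_fpqcPrecoverage, ?_⟩
    rintro S' g ⟨⟩
    exact ⟨w, hw⟩
  · have hml : IsModel hd act₀ (Red.bc (D.map f) Xk) (compIso c f Xk ≪≫ ek) al.act := by
      have := IsModel.push hq (hd := hd) (act₀ := act₀) (e := ek) (act := ak.act) hak f
      convert this using 1
      simp [al, tensorHom_id]
      rfl
    refine ⟨⟨compIso c f Xk ≪≫ ek, ?_⟩⟩
    rw [AlgGrp.Action.restrict_act (kap G hd l).hom act₀, ← Category.assoc _ ((kap G hd l).hom ▷ V), ← tensorHom_def']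
    exact (Category.assoc _ _ _).trans hml

end TorsStageLib
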